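import Cfsg.Agent.Lib.Walter.ClassifyRank
import Cfsg.Agent.Lib.Walter.Three.Main
import Cfsg.Agent.Lib.Walter.Outer.Main
import Cfsg.Agent.Lib.Walter.Outer.ThreeQuot

/-!
# Simple groups with abelian Sylow `2`-subgroups: the classification
-/

set_option autoImplicit false

namespace CfsgLib.Walter

universe u

/-- The classification of the simple groups with abelian Sylow `2`-subgroups, in centralizer form. -/
theorem classified : Classified.{u} :=
  classified_of_eight fun _ _ _ h hsec ⟨_, ht, hns⟩ =>
    h.centForm_of_three hsec ht hns fun _ E => Outer.three_of_quot h hsec Outer.threeQuotStmt E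

end CfsgLib.Walter
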