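import Cfsg.Agent.S3188
import Cfsg.Agent.Lib.Walter.Consumers.Defs
import Cfsg.Agent.Lib.Walter.Rank.Local

/-!
# Simple groups with abelian Sylow `2`-subgroups: the induction

The classification follows by induction on the order from the rank three theorem and from the bound on the rank
when some involution centralizer is not solvable.
-/

set_option autoImplicit false
set_option linter.style.haveILetI false

namespace CfsgLib.Walter

open Subgroup

universe u

/-- The case of solvable involution centralizers. -/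
theorem centForm_of_solvable {X : Type u} [Group X] [Finite X] (hs : IsSimpleGroup X)
    (hn : ¬ IsMulCommutative X) (hab : AbTwo X) (hsec : SectionsOK X)
    (hsol : ∀ t : X, orderOf t = 2 → Group.IsSolvable ↥(centralizer ({t} : Set X))) : CentForm X := by
  haveI := hs
  have hG : Rank.Setting X := ⟨hs, hn, hab, hsec⟩
  obtain ⟨S⟩ : Nonempty (Sylow 2 X) := inferInstance
  rcases Cfsg.Agent.S3188.result S (isMulCommutative_iff.2 (hab S)) hsol with
    h | ⟨F, iF, iF', hF, N, hN, ⟨e⟩, -⟩
  · exact absurd ⟨⟨IsSimpleGroup.comm_iff_isSolvable.2 h⟩⟩ hn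
  have hcore : Cfsg.oddCore X = ⊥ := Rank.core_eq_bot hG
  let q : X ⧸ Cfsg.oddCore X ≃* X := (QuotientGroup.quotientMulEquivOfEq hcore).trans QuotientGroup.quotientBot
  haveI := q.isSimpleGroup_congr.2 hs
  have hne : N ≠ ⊥ := fun h => by
    subst h
    haveI : Subsingleton (Matrix.ProjectiveSpecialLinearGroup (Fin 2) F) := e.symm.toEquiv.subsingleton
    haveI : IsSimpleGroup (Matrix.ProjectiveSpecialLinearGroup (Fin 2) F) :=
      Matrix.ProjectiveSpecialLinearGroup.rank_two_simple (F := F) (by
        rw [Nat.card_eq_fintype_card]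
        rcases hF with ⟨-, h⟩ | ⟨n, hn', h⟩
        · omega
        · rw [h]; exact le_trans (by norm_num) (Nat.pow_le_pow_right (by norm_num) hn'))
    exact not_nontrivial (Matrix.ProjectiveSpecialLinearGroup (Fin 2) F) inferInstance
  have htop : N = ⊤ := hN.eq_bot_or_eq_top.resolve_left hne
  subst htop
  refine Or.inl ⟨F, iF, iF', hF.symm.imp_right fun h => ⟨h.2, h.1⟩, ⟨(q.symm.trans Subgroup.topEquiv.symm).trans e⟩⟩

/-- The induction. -/
theorem classified_of
    (h8 : ∀ (G : Type u) [Group G] [Finite G], Eight G → SectionsOK G →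
      (∃ t : G, orderOf t = 2 ∧ ¬ Group.IsSolvable ↥(centralizer ({t} : Set G))) → CentForm G)
    (hrank : ∀ (G : Type u) [Group G] [Finite G], Rank.Setting G →
      ∀ t : G, orderOf t = 2 → ¬ Group.IsSolvable ↥(centralizer ({t} : Set G)) → SylowEight G) :
    Classified.{u} := by
  suffices H : ∀ n : ℕ, ∀ (X : Type u) [Group X] [Finite X], Nat.card X = n → IsSimpleGroup X →
      ¬ IsMulCommutative X → AbTwo X → CentForm X from fun X _ _ => H _ X rfl
  intro n
  induction n using Nat.strongRecOn with
  | _ n ih =>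
    intro X _ _ hn hs hc hab
    have hsec : SectionsOK X := fun Y _ _ hYs hYc hlt _ hYab => ih _ (hn ▸ hlt) Y rfl hYs hYc hYab
    by_cases h : ∀ t : X, orderOf t = 2 → Group.IsSolvable ↥(centralizer ({t} : Set X))
    · exact centForm_of_solvable hs hc hab hsec h
    · push Not at h
      obtain ⟨t, ht, hns⟩ := h
      exact h8 X ⟨hs, hc, hrank X ⟨hs, hc, hab, hsec⟩ t ht hns⟩ hsec ⟨t, ht, hns⟩

end CfsgLib.Walter
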