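import Cfsg.Agent.Lib.Walter.Classify
import Cfsg.Agent.Lib.Walter.Rank.Final

/-!
# The classification from the rank three theorem
-/

set_option autoImplicit false

namespace CfsgLib.Walter

open Subgroup

universe u

/-- The classification, given the rank three theorem. -/
theorem classified_of_eight
    (h8 : ∀ (G : Type u) [Group G] [Finite G], Eight G → SectionsOK G →
      (∃ t : G, orderOf t = 2 ∧ ¬ Group.IsSolvable ↥(centralizer ({t} : Set G))) → CentForm G) :
    Classified.{u} :=
  classified_of h8 fun _ _ _ hG _ ht hns => Rank.sylowEight_of_nonsolvable hG ht hns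

end CfsgLib.Walter
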