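import Cfsg.Prelude.Def_TwoFusion
import Cfsg.Prelude.Def_CaseTheorems
import Cfsg.Agent.Lib.Coprime.Core
import Mathlib.LinearAlgebra.Matrix.ProjectiveSpecialLinearGroup
import Mathlib.GroupTheory.Sylow

/-!
# Simple groups with abelian Sylow `2`-subgroups: the interfaces

`CentForm` is the centralizer form of the classification, stated for every rank. `SectionsOK` is the
induction hypothesis. In rank three, `Eight` is the configuration, `Centralizer` is the structure of `C(t)`
once its odd core is trivial, and `FieldElt` is a field automorphism inside it.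

The obligations:
* `Eight.core_eq_bot` : `Eight G → SectionsOK G → orderOf t = 2 →
    ¬ Group.IsSolvable C(t) → oddCore C(t) = ⊥`;
* `FieldElt.three` : `Eight G → SectionsOK G → (D : FieldElt T) →
    D.l = 3 ∧ 3 ∣ Fintype.card T.F`;
* `FieldElt.false_of_three` : `Eight G → (D : FieldElt T) → D.l = 3 → 3 ∣ Fintype.card T.F → False`.
-/

set_option autoImplicit false

namespace CfsgLib.Walter

open Subgroup

universe u

/-- The Sylow `2`-subgroups are commutative. -/
def AbTwo (X : Type u) [Group X] : Prop := ∀ S : Sylow 2 X, ∀ a b : S, a * b = b * a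

/-- Sylow `2`-subgroups elementary abelian of order eight. -/
def SylowEight (X : Type u) [Group X] : Prop :=
  ∀ S : Sylow 2 X, Nat.card (S : Subgroup X) = 8 ∧ ∀ x ∈ (S : Subgroup X), x * x = 1

/-- The groups of type Janko or Ree: `C(t) ≅ 2 × PSL(2, q)`, `q = 5` or `q = 3 ^ (2 m + 1)`. -/
def ReeForm (X : Type u) [Group X] : Prop :=
  SylowEight X ∧ ∃ t : X, orderOf t = 2 ∧ ∃ (F : Type) (_ : Field F) (_ : Fintype F),
    (Fintype.card F = 5 ∨ ∃ m : ℕ, 1 ≤ m ∧ Fintype.card F = 3 ^ (2 * m + 1)) ∧
      Nonempty (centralizer ({t} : Set X) ≃*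
        Multiplicative (ZMod 2) × Matrix.ProjectiveSpecialLinearGroup (Fin 2) F)

/-- The centralizer form of the list of simple groups with abelian Sylow `2`-subgroups. -/
def CentForm (X : Type u) [Group X] : Prop :=
  (∃ (F : Type) (_ : Field F) (_ : Fintype F),
      ((∃ n : ℕ, 2 ≤ n ∧ Fintype.card F = 2 ^ n) ∨
        (5 ≤ Fintype.card F ∧ (Fintype.card F % 8 = 3 ∨ Fintype.card F % 8 = 5))) ∧
      Nonempty (X ≃* Matrix.ProjectiveSpecialLinearGroup (Fin 2) F)) ∨
    ReeForm X

/-- The induction hypothesis: the list holds for simple groups of smaller order dividing `|G|`. -/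
def SectionsOK (G : Type u) [Group G] : Prop :=
  ∀ (X : Type u) [Group X] [Finite X], IsSimpleGroup X → ¬ IsMulCommutative X →
    Nat.card X < Nat.card G → Nat.card X ∣ Nat.card G → AbTwo X → CentForm X

/-- Rank three. -/
structure Eight (G : Type u) [Group G] : Prop where
  simple : IsSimpleGroup G
  noncomm : ¬ IsMulCommutative G
  sylow : SylowEight G

/-- `C(t) = ⟨t⟩ × E` with `PSL(2, q) ≅ K ≤ E ≤ Aut K`, `q ≡ 3, 5 (mod 8)`, `q ≥ 5`, `|E : K|` odd. -/
structure Centralizer (G : Type u) [Group G] (t : G) where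
  E : Subgroup G
  K : Subgroup G
  order_t : orderOf t = 2
  prod : Cfsg.IsInternalDirectProduct (zpowers t) E (centralizer ({t} : Set G))
  K_le : K ≤ E
  K_normal : ∀ x ∈ E, ∀ k ∈ K, x * k * x⁻¹ ∈ K
  odd_relIndex : Odd (K.relIndex E)
  faithful : ∀ x ∈ E, (∀ k ∈ K, Commute x k) → x = 1
  F : Type
  [field : Field F]
  [fintype : Fintype F]
  five_le : 5 ≤ Fintype.card F
  mod_eight : Fintype.card F % 8 = 3 ∨ Fintype.card F % 8 = 5
  iso : Nonempty (K ≃* Matrix.ProjectiveSpecialLinearGroup (Fin 2) F)

attribute [instance] Centralizer.field Centralizer.fintype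

/-- An element of prime order of `E` outside `K` centralizing a four group of `K`. -/
structure FieldElt {G : Type u} [Group G] {t : G} (T : Centralizer G t) where
  l : ℕ
  d : G
  a : G
  b : G
  prime : l.Prime
  order_d : orderOf d = l
  d_mem : d ∈ T.E
  d_not_mem : d ∉ T.K
  a_mem : a ∈ T.K
  b_mem : b ∈ T.K
  order_a : orderOf a = 2
  order_b : orderOf b = 2
  a_ne_b : a ≠ b
  comm_ab : Commute a b
  comm_da : Commute d a
  comm_db : Commute d b

end CfsgLib.Walter
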